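import Cfsg.Agent.H594.QF.VOne

/-!
# S2491, row F4 = `²E₆(2)`: the centralizer of a root element is `P₁` (K2, helper594)
-/

set_option autoImplicit false
set_option linter.unusedSectionVars false
set_option linter.unusedFintypeInType false
set_option maxHeartbeats 400000

namespace Cfsg.Agent.H594.QF

open CoxeterSystem Cfsg.Agent.ChevalleyStructure.CoxeterGeom Cfsg.Agent.Tits.Roots Cfsg.Agent.Tits.Core
  Cfsg.Agent.Nodes Cfsg.Agent.Nodes.Reps Cfsg.Agent.Nodes.BNOf Cfsg.Agent.Nodes.RGDLib Cfsg.Agent.Nodes.Bruhat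
  Cfsg.Agent.Nodes.OppDec Cfsg.Agent.Nodes.LeviDec Cfsg.Agent.Nodes.StabComb
open Cfsg.Lie Subgroup
open Cfsg.Agent.H231.QF
open Cfsg.Agent.Nodes.RGDTwCoordE6 Cfsg.Agent.Nodes.RGDTwComE6 Cfsg.Agent.Nodes.RGDTwActE6
open Cfsg.Agent.KFacts.TwESix.Comb (rts mem_rts)
open Cfsg.Agent.Nodes.RGDTwCoord (Ok)
open scoped commutatorElement

universe u v

theorem tab_th_pos : ∀ z ∈ rts, (∀ i, 0 ≤ z i) → z + th ∉ rts ∧ z + th ≠ 0 := by decide +kernel

theorem tab_refl : ∀ i : Fin 4, i ≠ 0 → RGDFold.refl RGDTwE6.A i th = th := by decide +kernel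

theorem tab_refl0 : RGDFold.refl RGDTwE6.A 0 th ≠ th := by decide +kernel

section

variable {F : Type u} [Field F] [Fintype F] (hF : Fintype.card F = 4) {φ : F →+* F} (hφ : ∀ t, φ t = t ^ 2)

omit [Fintype F] in
/-- an element normalising `X_θ` centralises it -/
theorem comm_of_norm (hc : Nat.card (X φ th) = 2) {g t : KK F} (ht : t ∈ X φ th) (hg : g * t * g⁻¹ ∈ X φ th) :
    g * t = t * g := by
  by_cases h1 : t = 1
  · rw [h1, mul_one, one_mul]
  have h2 : g * t * g⁻¹ = t := by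
    by_contra hne
    have h3 : g * t * g⁻¹ ≠ 1 := by
      intro h
      apply h1
      calc t = g⁻¹ * (g * t * g⁻¹) * g := by group
        _ = 1 := by rw [h]; group
    have hfin : Finite (X φ th) := Nat.finite_of_card_ne_zero (by rw [hc]; decide)
    have h4 : ({1, t, g * t * g⁻¹} : Set (KK F)).ncard ≤ 2 := by
      refine (Set.ncard_le_ncard (t := (X φ th : Set (KK F))) ?_ hfin).trans hc.le
      rintro x (rfl | rfl | rfl)
      · exact one_mem _
      · exact ht
      · exact hg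
    have h5 : ({1, t, g * t * g⁻¹} : Set (KK F)).ncard = 3 := by
      rw [Set.ncard_eq_three]
      exact ⟨1, t, g * t * g⁻¹, fun h => h1 h.symm, fun h => h3 h.symm, fun h => hne h.symm, rfl⟩
    omega
  exact mul_inv_eq_iff_eq_mul.1 h2

include hF hφ

/-- **K2** : the centralizer of a root element is `P₁` -/
theorem centralizer_eq {t : KK F} (ht : t ∈ X φ th) (h1 : t ≠ 1) : centralizer ({t} : Set (KK F)) = P φ j1 := by
  obtain ⟨p, hp'⟩ := CharP.exists F
  have : Fact p.Prime := ⟨CharP.char_is_prime F p⟩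
  have R := RGDTwE6.rgd cs hφ (hqq hF) p
  have hW : Finite CoxeterMatrix.F₄.Group := Cfsg.Agent.KFacts.TwESix.Comb.finiteW cs
  have hG : GG cs RGDTwE6.isCartan (RGDTwE6.T F 2) (X φ) = ⊤ :=
    Cfsg.Agent.KFacts.RgdRigid.GG_eq_top (RGDTwE6.G1_eq_top cs hφ (hqq hF))
  have hc := card_X_th hF hφ
  have hB : RGD.B cs RGDTwE6.isCartan (RGDTwE6.T F 2) (X φ) ≤ centralizer ({t} : Set (KK F)) := by
    refine sup_le (fun g hg => ?_) (RGD.Sup_le fun z hz g hg => ?_)
    · rw [Subgroup.mem_centralizer_singleton_iff]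
      refine comm_of_norm hc ht ?_
      have h2 : cj g (X φ th) = X φ th := R.tor th isRoot_th g hg
      have h3 : g * t * g⁻¹ ∈ cj g (X φ th) := conj_mem_cj.2 ht
      rwa [h2] at h3
    · rw [Subgroup.mem_centralizer_singleton_iff]
      have hz' := (mem_rts cs).1 hz.1
      obtain ⟨h2, h3⟩ := tab_th_pos z hz' fun i => hz.2 i
      exact X_comm hF hφ hz' tab_th.1 h2 h3 hg ht
  have h2 := inf_eq_PJ R hB
  rw [hG, inf_top_eq] at h2
  rw [h2]
  have h3 : {i | RGDTwE6.nn hφ i ∈ centralizer ({t} : Set (KK F))} = j1 := by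
    ext i
    have h4 : RGDTwE6.nn hφ i * t * (RGDTwE6.nn hφ i)⁻¹ ∈ X φ (RGDFold.refl RGDTwE6.A i th) := by
      have h5 : cj (RGDTwE6.nn hφ i) (X φ th) = X φ (rep cs RGDTwE6.isCartan (cs.simple i) th) := R.conj i th isRoot_th
      have h6 : RGDTwE6.nn hφ i * t * (RGDTwE6.nn hφ i)⁻¹ ∈ cj (RGDTwE6.nn hφ i) (X φ th) := conj_mem_cj.2 ht
      rwa [h5, Cfsg.Agent.KFacts.TwESix.Comb.rep_simple_refl] at h6
    constructor
    · intro hi h0
      subst h0
      have hi' : RGDTwE6.nn hφ 0 ∈ centralizer ({t} : Set (KK F)) := hi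
      rw [Subgroup.mem_centralizer_singleton_iff] at hi'
      rw [hi', mul_inv_cancel_right] at h4
      have hr : IsRoot cs RGDTwE6.isCartan (RGDFold.refl RGDTwE6.A 0 th) := by
        rw [← Cfsg.Agent.KFacts.TwESix.Comb.rep_simple_refl (cs := cs)]
        exact isRoot_th.act _
      have h5 := OppDec.X_inf_X R hr isRoot_th tab_refl0
      have h6 : t ∈ (⊥ : Subgroup (KK F)) := by
        rw [← h5]
        exact ⟨h4, ht⟩
      exact h1 (Subgroup.mem_bot.1 h6)
    · intro hi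
      show RGDTwE6.nn hφ i ∈ centralizer ({t} : Set (KK F))
      rw [Subgroup.mem_centralizer_singleton_iff]
      rw [tab_refl i hi] at h4
      exact comm_of_norm hc ht h4
  rw [h3]

end

end Cfsg.Agent.H594.QF
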