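import Cfsg.Agent.H231.QF.Defs
import Cfsg.Agent.Nodes.RGDTwActE6
import Cfsg.Agent.KFacts.TwESix.Comb

/-!
# S2491, row F4 = `²E₆(2)`: the unipotent radical `V₁` of `P₁` is extraspecial of order `2 ^ 21` (K6, helper594)
-/

set_option autoImplicit false
set_option linter.unusedSectionVars false
set_option linter.unusedFintypeInType false
set_option maxHeartbeats 400000

namespace Cfsg.Agent.H594.QF

open CoxeterSystem Cfsg.Agent.ChevalleyStructure.CoxeterGeom Cfsg.Agent.Tits.Roots Cfsg.Agent.Tits.Core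
  Cfsg.Agent.Nodes Cfsg.Agent.Nodes.Reps Cfsg.Agent.Nodes.BNOf Cfsg.Agent.Nodes.RGDLib Cfsg.Agent.Nodes.Bruhat
  Cfsg.Agent.Nodes.OppDec Cfsg.Agent.Nodes.LeviDec Cfsg.Agent.Nodes.StabComb
open Cfsg.Lie Subgroup
open Cfsg.Agent.H231.QF
open Cfsg.Agent.Nodes.RGDTwCoordE6 Cfsg.Agent.Nodes.RGDTwComE6 Cfsg.Agent.Nodes.RGDTwActE6
open Cfsg.Agent.KFacts.TwESix.Comb (rts mem_rts)
open Cfsg.Agent.Nodes.RGDTwCoord (Ok)
open scoped commutatorElement

universe u v

/-! ### Abstract -/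

section Abs

variable {G : Type v} [Group G] {A B Z : Subgroup G}

theorem exists_mul (hZB : Z ≤ B) (hAB : ∀ a ∈ A, ∀ b ∈ B, a * b * a⁻¹ * b⁻¹ ∈ Z) {x : G} (hx : x ∈ A ⊔ B) :
    ∃ a ∈ A, ∃ b ∈ B, x = a * b := by
  have hN : A ≤ Subgroup.normalizer (B : Set G) := by
    have key : ∀ a ∈ A, ∀ b ∈ B, a * b * a⁻¹ ∈ B := by
      intro a ha b hb
      have h1 := mul_mem (hZB (hAB a ha b hb)) hb
      have h2 : a * b * a⁻¹ * b⁻¹ * b = a * b * a⁻¹ := by group
      rwa [h2] at h1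
    intro a ha
    rw [Subgroup.mem_normalizer_iff]
    intro b
    refine ⟨fun hb => key a ha b hb, fun hb => ?_⟩
    have h1 := key a⁻¹ (inv_mem ha) _ hb
    have h2 : a⁻¹ * (a * b * a⁻¹) * a⁻¹⁻¹ = b := by group
    rwa [h2] at h1
  have h1 : x ∈ ((A ⊔ B : Subgroup G) : Set G) := hx
  rw [Subgroup.coe_mul_of_left_le_normalizer_right _ _ hN, Set.mem_mul] at h1
  obtain ⟨a, ha, b, hb, e⟩ := h1
  exact ⟨a, ha, b, hb, e.symm⟩

theorem card_sup (hZB : Z ≤ B) (hAB : ∀ a ∈ A, ∀ b ∈ B, a * b * a⁻¹ * b⁻¹ ∈ Z) (hinf : ∀ x ∈ A, x ∈ B → x = 1) :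
    Nat.card ↥(A ⊔ B) = Nat.card A * Nat.card B := by
  rw [← Nat.card_prod]
  symm
  refine Nat.card_congr (Equiv.ofBijective
    (fun p : A × B => (⟨p.1.1 * p.2.1, mul_mem (Subgroup.mem_sup_left p.1.2) (Subgroup.mem_sup_right p.2.2)⟩ : ↥(A ⊔ B)))
    ⟨?_, ?_⟩)
  · rintro ⟨⟨a, ha⟩, ⟨b, hb⟩⟩ ⟨⟨a', ha'⟩, ⟨b', hb'⟩⟩ h
    have h1 : a * b = a' * b' := congrArg Subtype.val h
    have h2 : a'⁻¹ * a = b' * b⁻¹ := by
      have h3 : a'⁻¹ * (a * b) * b⁻¹ = a'⁻¹ * (a' * b') * b⁻¹ := by rw [h1]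
      calc a'⁻¹ * a = a'⁻¹ * (a * b) * b⁻¹ := by group
        _ = a'⁻¹ * (a' * b') * b⁻¹ := h3
        _ = b' * b⁻¹ := by group
    have h3 : a'⁻¹ * a = 1 := hinf _ (mul_mem (inv_mem ha') ha) (h2 ▸ mul_mem hb' (inv_mem hb))
    have h4 : a' = a := inv_mul_eq_one.1 h3
    have h5 : b' = b := by
      rw [h3] at h2
      exact (mul_inv_eq_one.1 h2.symm)
    subst h4 h5
    rfl
  · rintro ⟨x, hx⟩
    obtain ⟨a, ha, b, hb, rfl⟩ := exists_mul hZB hAB hx
    exact ⟨⟨⟨a, ha⟩, ⟨b, hb⟩⟩, rfl⟩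

end Abs

/-! ### Tables -/

/-- the positive roots with coefficient one at the node `0` -/
def SL : List (Fin 4 → ℤ) := [![1, 0, 0, 0], ![1, 1, 0, 0], ![1, 1, 1, 0], ![1, 1, 1, 1], ![1, 1, 2, 0], ![1, 1, 2, 1],
  ![1, 2, 2, 0], ![1, 1, 2, 2], ![1, 2, 2, 1], ![1, 2, 2, 2], ![1, 2, 3, 1], ![1, 2, 3, 2], ![1, 2, 4, 2], ![1, 3, 4, 2]]

theorem tab_pos : ∀ z ∈ rts, 0 < z 0 → z = th ∨ z ∈ SL := by decide +kernel

theorem tab_th : th ∈ rts ∧ (∀ i, 0 ≤ th i) ∧ Qv th = 4 ∧ th ∉ SL := by decide +kernel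

theorem tab_SL : ∀ z ∈ SL, z ∈ rts ∧ (∀ i, 0 ≤ z i) ∧ z 0 = 1 ∧ th - z ∈ SL ∧ th + z ∉ rts ∧ Qv (th - z) = Qv z ∧
    (N z (th - z) = 1 ∨ N z (th - z) = -1) := by decide +kernel

theorem tab_sum : ∀ z ∈ SL, ∀ w ∈ SL, z + w ∈ rts → z + w = th := by decide +kernel

theorem tab_nodup : SL.Nodup := by decide +kernel

theorem tab_len : (SL.map fun z => if Qv z = 4 then 2 else 4).prod = 2 ^ 20 := by decide +kernel

/-! ### The field -/

section

variable {F : Type u} [Field F] [Fintype F] (hF : Fintype.card F = 4) {φ : F →+* F} (hφ : ∀ t, φ t = t ^ 2)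

include hF in
theorem hqq (t : F) : (t ^ 2) ^ 2 = t := by
  rw [← pow_mul]
  have h := FiniteField.pow_card t
  rw [hF] at h
  exact h

include hF in
theorem two_eq : (2 : F) = 0 := by
  have h : ((Fintype.card F : ℕ) : F) = 0 := Nat.cast_card_eq_zero F
  rw [hF] at h
  have h2 : (2 : F) * 2 = 0 := by
    have : ((4 : ℕ) : F) = 2 * 2 := by norm_num
    rw [← this]; exact h
  exact mul_self_eq_zero.1 h2

include hF in
theorem add_self (a : F) : a + a = 0 := by
  rw [← two_mul, two_eq hF, zero_mul]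

include hF in
theorem exists_ne : ∃ c : F, c ≠ 0 ∧ c ≠ 1 := by
  by_contra hcon
  push Not at hcon
  have h1 : Fintype.card F ≤ 2 := by
    classical
    have h2 : (Finset.univ : Finset F) ⊆ {0, 1} := by
      intro a _
      rw [Finset.mem_insert, Finset.mem_singleton]
      by_cases h : a = 0
      · exact Or.inl h
      · exact Or.inr (hcon a h)
    calc Fintype.card F = (Finset.univ : Finset F).card := rfl
      _ ≤ ({0, 1} : Finset F).card := Finset.card_le_card h2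
      _ ≤ 2 := Finset.card_le_two
  omega

include hφ in
theorem card_fix : Nat.card {a : F // φ a = a} = 2 := by
  classical
  have h1 : ∀ a : F, φ a = a ↔ a = 0 ∨ a = 1 := by
    intro a
    rw [hφ]
    constructor
    · intro h
      have h2 : a * (a - 1) = 0 := by linear_combination h
      rcases mul_eq_zero.1 h2 with h3 | h3
      · exact Or.inl h3
      · exact Or.inr (sub_eq_zero.1 h3)
    · rintro (rfl | rfl) <;> norm_num
  have h2 : {a : F | φ a = a} = {0, 1} := by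
    ext a
    exact h1 a
  have h3 : Nat.card {a : F // φ a = a} = ({a : F | φ a = a} : Set F).ncard := rfl
  rw [h3, h2, Set.ncard_pair zero_ne_one]

/-! ### Root groups -/

theorem isRoot {z : Fin 4 → ℤ} (hz : z ∈ rts) : IsRoot cs RGDTwE6.isCartan z := (mem_rts cs).2 hz

theorem isRoot_th : IsRoot cs RGDTwE6.isCartan th := isRoot tab_th.1

include hF hφ

/-- elements of root groups have order at most two -/
theorem X_sq {z : Fin 4 → ℤ} (hz : z ∈ rts) {x : KK F} (hx : x ∈ X φ z) : x * x = 1 := by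
  obtain ⟨a, ha, rfl⟩ := (mem_X hφ (hqq hF) (isRoot hz) _).1 hx
  rw [← x_add hφ (hqq hF) (isRoot hz) ha ha, add_self hF]
  exact x_zero hφ (hqq hF) (isRoot hz)

theorem X_comm {z w : Fin 4 → ℤ} (hz : z ∈ rts) (hw : w ∈ rts) (hzw : z + w ∉ rts) (hne : z + w ≠ 0) {x y : KK F}
    (hx : x ∈ X φ z) (hy : y ∈ X φ w) : x * y = y * x := by
  obtain ⟨a, ha, rfl⟩ := (mem_X hφ (hqq hF) (isRoot hz) _).1 hx
  obtain ⟨b, hb, rfl⟩ := (mem_X hφ (hqq hF) (isRoot hw) _).1 hy
  exact comm_nil hφ (hqq hF) (isRoot hz) (isRoot hw) (fun h => hzw ((mem_rts cs).1 h))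
    (fun h => hne (by rw [h, add_neg_cancel])) a b

theorem card_X {z : Fin 4 → ℤ} (hz : z ∈ rts) : Nat.card (X φ z) = if Qv z = 4 then 2 else 4 := by
  have key : Nat.card (X φ z) = Nat.card {a : F // Ok chevE6 RGDTwE6.J O φ z a} := by
    symm
    refine Nat.card_congr (Equiv.ofBijective
      (fun a : {a : F // Ok chevE6 RGDTwE6.J O φ z a} => (⟨RGDTwComE6.x φ 2 z a.1, x_mem hφ (hqq hF) (isRoot hz) a.2⟩ : X φ z)) ⟨?_, ?_⟩)
    · rintro ⟨a, ha⟩ ⟨b, hb⟩ h
      exact Subtype.ext (x_inj hφ (hqq hF) (isRoot hz) ha hb (congrArg Subtype.val h))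
    · rintro ⟨g, hg⟩
      obtain ⟨a, ha, rfl⟩ := (mem_X hφ (hqq hF) (isRoot hz) _).1 hg
      exact ⟨⟨a, ha⟩, rfl⟩
  rw [key]
  split_ifs with h
  · rw [← card_fix hφ]
    exact Nat.card_congr (Equiv.subtypeEquivRight fun a => ok_iff_long (isRoot hz) h)
  · refine (Nat.card_congr (Equiv.subtypeUnivEquiv fun a =>
      ok_short hφ (hqq hF) (isRoot hz) ((long_or_short (isRoot hz)).resolve_left h) a)).trans ?_
    rw [Nat.card_eq_fintype_card, hF]

/-- **Nondegeneracy.** -/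
theorem X_nondeg {r : Fin 4 → ℤ} (hr : r ∈ SL) {x : KK F} (hx : x ∈ X φ r)
    (h : ∀ y ∈ X φ (th - r), x * y = y * x) : x = 1 := by
  obtain ⟨h1, -, -, h2, -, h3, h4⟩ := tab_SL r hr
  have hr' := isRoot h1
  have hs' := isRoot (tab_SL _ h2).1
  have e : r + (th - r) = th := by abel
  have hsum : IsRoot cs RGDTwE6.isCartan (r + (th - r)) := by rw [e]; exact isRoot_th
  have hN : ((N r (th - r) : ℤ) : F) ≠ 0 := by
    rcases h4 with h5 | h5 <;> rw [h5] <;> simp
  obtain ⟨a, ha, rfl⟩ := (mem_X hφ (hqq hF) hr' _).1 hx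
  rw [x_eq_one_iff hφ (hqq hF) hr' ha]
  by_cases hl : Qv r = 4
  · have hl' : Lg (th - r) := h3.trans hl
    have hfa : φ a = a := (ok_iff_long hr' hl).1 ha
    have hf1 : φ (1 : F) = 1 := map_one φ
    obtain ⟨hl2, h5⟩ := comm_long hφ (hqq hF) hr' hs' hsum hl hl' hfa hf1
    have h6 := h _ (x_mem hφ (hqq hF) hs' (ok_one _))
    rw [commutatorElement_eq_one_iff_mul_comm.2 h6] at h5
    have h7 := (x_eq_one_iff hφ (hqq hF) hsum (ok_long hsum hl2 (by
      rw [map_mul, map_mul, map_intCast, hfa, hf1]))).1 h5.symm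
    rw [mul_one] at h7
    exact (mul_eq_zero.1 h7).resolve_left hN
  · have hs : St r := (long_or_short hr').resolve_left hl
    have hs2 : St (th - r) := h3.trans hs
    have hl3 : Lg (r + (th - r)) := by rw [e]; exact tab_th.2.2.1
    by_contra ha0
    obtain ⟨c, hc0, hc1⟩ := exists_ne hF
    have hpp := phi_phi hφ (hqq hF)
    have h5 := comm_trace hφ (hqq hF) hr' hs' hsum hs hs2 hl3 a (φ (c / a))
    have h6 := h _ (x_mem hφ (hqq hF) hs' (ok_short hφ (hqq hF) hs' hs2 (φ (c / a))))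
    rw [commutatorElement_eq_one_iff_mul_comm.2 h6] at h5
    have hsim : a * φ (φ (c / a)) + φ a * φ (c / a) = c + c ^ 2 := by
      rw [hpp, mul_div_cancel₀ _ ha0, ← map_mul, mul_div_cancel₀ _ ha0, hφ]
    rw [hsim] at h5
    have h7 := (x_eq_one_iff hφ (hqq hF) hsum (ok_long hsum hl3 (by
      rw [map_mul, map_intCast, hφ]
      have h8 : (c + c ^ 2) ^ 2 = c + c ^ 2 := by
        have h9 := hqq hF c
        have h10 := two_eq hF
        linear_combination h9 + c * c ^ 2 * h10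
      rw [h8]))).1 h5.symm
    have h8 := (mul_eq_zero.1 h7).resolve_left hN
    have h9 : c * (1 + c) = 0 := by linear_combination h8
    have h10 := (mul_eq_zero.1 h9).resolve_left hc0
    apply hc1
    have h11 := two_eq hF
    linear_combination h10 - h11

/-! ### The filtration -/

omit hF hφ [Fintype F] in
/-- the subgroup generated by `X_θ` and the root groups of a list of roots -/
noncomputable def HH (φ : F →+* F) : List (Fin 4 → ℤ) → Subgroup (KK F)
  | [] => X φ th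
  | r :: L => X φ r ⊔ HH φ L

omit hF hφ [Fintype F] in
theorem Z_le_HH (L : List (Fin 4 → ℤ)) : X φ th ≤ HH φ L := by
  induction L with
  | nil => exact le_refl _
  | cons r L ih => exact ih.trans le_sup_right

omit hF hφ [Fintype F] in
theorem X_le_HH {L : List (Fin 4 → ℤ)} {r : Fin 4 → ℤ} (hr : r ∈ L) : X φ r ≤ HH φ L := by
  induction L with
  | nil => exact absurd hr List.not_mem_nil
  | cons s L ih =>
    rcases List.mem_cons.1 hr with rfl | h
    · exact le_sup_left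
    · exact (ih h).trans le_sup_right

omit hF hφ [Fintype F] in
theorem HH_le {L : List (Fin 4 → ℤ)} {K : Subgroup (KK F)} (h : ∀ r ∈ L, X φ r ≤ K) (h0 : X φ th ≤ K) : HH φ L ≤ K := by
  induction L with
  | nil => exact h0
  | cons s L ih => exact sup_le (h s List.mem_cons_self) (ih fun r hr => h r (List.mem_cons_of_mem _ hr))

/-- `X_θ` commutes with all root groups of `V₁` -/
theorem Z_comm {r : Fin 4 → ℤ} (hr : r ∈ SL) {x y : KK F} (hx : x ∈ X φ th) (hy : y ∈ X φ r) : x * y = y * x := by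
  obtain ⟨h1, -, h0, -, h2, -⟩ := tab_SL r hr
  refine X_comm hF hφ tab_th.1 h1 h2 (fun h => ?_) hx hy
  have h3 := congrFun h 0
  rw [Pi.add_apply, h0] at h3
  revert h3
  decide

/-- root groups of `V₁` commute unless the sum is `θ` -/
theorem X_comm' {r s : Fin 4 → ℤ} (hr : r ∈ SL) (hs : s ∈ SL) (hne : r + s ≠ th) {x y : KK F} (hx : x ∈ X φ r)
    (hy : y ∈ X φ s) : x * y = y * x := by
  obtain ⟨h1, -, h0, -⟩ := tab_SL r hr
  obtain ⟨h1', -, h0', -⟩ := tab_SL s hs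
  refine X_comm hF hφ h1 h1' (fun h => hne (tab_sum r hr s hs h)) (fun h => ?_) hx hy
  have h3 := congrFun h 0
  rw [Pi.add_apply, h0, h0'] at h3
  revert h3
  decide

theorem HH_comm {L : List (Fin 4 → ℤ)} (hL : ∀ r ∈ L, r ∈ SL) {s : Fin 4 → ℤ} (hs : s ∈ SL) (hne : ∀ r ∈ L, r + s ≠ th)
    {x y : KK F} (hx : x ∈ HH φ L) (hy : y ∈ X φ s) : x * y = y * x := by
  have h : HH φ L ≤ Subgroup.centralizer ({y} : Set (KK F)) := by
    refine HH_le (fun r hr x hx => ?_) (fun x hx => ?_)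
    · rw [Subgroup.mem_centralizer_singleton_iff]
      exact X_comm' hF hφ (hL r hr) hs (hne r hr) hx hy
    · rw [Subgroup.mem_centralizer_singleton_iff]
      exact Z_comm hF hφ hs hx hy
  have h1 := h hx
  rwa [Subgroup.mem_centralizer_singleton_iff] at h1

/-- commutators of root elements of `V₁` -/
theorem X_commutator {r s : Fin 4 → ℤ} (hr : r ∈ SL) (hs : s ∈ SL) {x y : KK F} (hx : x ∈ X φ r) (hy : y ∈ X φ s) :
    x * y * x⁻¹ * y⁻¹ ∈ X φ th := by
  by_cases hne : r + s = th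
  · obtain ⟨h1, -, -, -, -, h3, -⟩ := tab_SL r hr
    have e : s = th - r := by rw [← hne]; abel
    subst e
    have hr' := isRoot h1
    have hs' := isRoot (tab_SL _ hs).1
    have hsum : IsRoot cs RGDTwE6.isCartan (r + (th - r)) := by rw [hne]; exact isRoot_th
    obtain ⟨a, ha, rfl⟩ := (mem_X hφ (hqq hF) hr' _).1 hx
    obtain ⟨b, hb, rfl⟩ := (mem_X hφ (hqq hF) hs' _).1 hy
    rw [← commutatorElement_def]
    by_cases hl : Qv r = 4
    · have hl' : Lg (th - r) := h3.trans hl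
      have hfa : φ a = a := (ok_iff_long hr' hl).1 ha
      have hfb : φ b = b := (ok_iff_long hs' hl').1 hb
      obtain ⟨hl2, h5⟩ := comm_long hφ (hqq hF) hr' hs' hsum hl hl' hfa hfb
      rw [h5]
      have h6 := x_mem (q := 2) hφ (hqq hF) hsum (ok_long hsum hl2 (a := ((N r (th - r) : ℤ) : F) * (a * b)) (by
        rw [map_mul, map_mul, map_intCast, hfa, hfb]))
      have h7 : X φ (r + (th - r)) = X φ th := by rw [hne]
      rw [← h7]
      exact h6
    · have hs : St r := (long_or_short hr').resolve_left hl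
      have hs2 : St (th - r) := h3.trans hs
      have hl3 : Lg (r + (th - r)) := by rw [hne]; exact tab_th.2.2.1
      have h5 := comm_trace hφ (hqq hF) hr' hs' hsum hs hs2 hl3 a b
      rw [h5]
      have h6 := x_mem (q := 2) hφ (hqq hF) hsum (ok_long hsum hl3
        (a := ((N r (th - r) : ℤ) : F) * (a * φ b + φ a * b)) (by
          rw [map_mul, map_add, map_mul, map_mul, map_intCast, phi_phi hφ (hqq hF), phi_phi hφ (hqq hF), add_comm]))
      have h7 : X φ (r + (th - r)) = X φ th := by rw [hne]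
      rw [← h7]
      exact h6
  · have h1 := X_comm' hF hφ hr hs hne hx hy
    have h2 : x * y * x⁻¹ * y⁻¹ = 1 := by rw [h1]; group
    rw [h2]
    exact one_mem _

omit hF hφ [Fintype F] in
/-- the elements `x` centralising `Z` with `[x, y] ∈ Z` -/
def CC {G : Type v} [Group G] (Z : Subgroup G) (y : G) : Subgroup G where
  carrier := {x | (∀ z ∈ Z, x * z = z * x) ∧ x * y * x⁻¹ * y⁻¹ ∈ Z}
  one_mem' := ⟨fun z _ => by rw [one_mul, mul_one], by
    have h : (1 : G) * y * 1⁻¹ * y⁻¹ = 1 := by group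
    rw [h]; exact one_mem _⟩
  mul_mem' := by
    rintro a b ⟨ha, ha'⟩ ⟨hb, hb'⟩
    refine ⟨fun z hz => ?_, ?_⟩
    · rw [mul_assoc, hb z hz, ← mul_assoc, ha z hz, mul_assoc]
    · have h1 := ha _ hb'
      have h2 : a * b * y * (a * b)⁻¹ * y⁻¹ = (b * y * b⁻¹ * y⁻¹) * (a * y * a⁻¹ * y⁻¹) := by
        calc a * b * y * (a * b)⁻¹ * y⁻¹ = (a * (b * y * b⁻¹ * y⁻¹)) * a⁻¹ * (a * y * a⁻¹ * y⁻¹) := by group
          _ = _ := by rw [h1]; group
      rw [h2]
      exact mul_mem hb' ha'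
  inv_mem' := by
    rintro a ⟨ha, ha'⟩
    refine ⟨fun z hz => ?_, ?_⟩
    · have h1 := ha z hz
      calc a⁻¹ * z = a⁻¹ * (z * a) * a⁻¹ := by group
        _ = z * a⁻¹ := by rw [← h1]; group
    · have h1 := ha _ (inv_mem ha')
      have h2 : a⁻¹ * y * a⁻¹⁻¹ * y⁻¹ = (a * y * a⁻¹ * y⁻¹)⁻¹ := by
        calc a⁻¹ * y * a⁻¹⁻¹ * y⁻¹ = a⁻¹ * ((a * y * a⁻¹ * y⁻¹)⁻¹ * a) := by group
          _ = _ := by rw [← h1]; group
      rw [h2]
      exact inv_mem ha'

theorem Z_self {x y : KK F} (hx : x ∈ X φ th) (hy : y ∈ X φ th) : x * y = y * x :=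
  X_comm hF hφ tab_th.1 tab_th.1 (by decide +kernel) (by decide +kernel) hx hy

theorem HH_Z {L : List (Fin 4 → ℤ)} (hL : ∀ r ∈ L, r ∈ SL) {x y : KK F} (hx : x ∈ HH φ L) (hy : y ∈ X φ th) :
    x * y = y * x := by
  have h : HH φ L ≤ Subgroup.centralizer ({y} : Set (KK F)) := by
    refine HH_le (fun r hr x hx => ?_) (fun x hx => ?_)
    · rw [Subgroup.mem_centralizer_singleton_iff]
      exact (Z_comm hF hφ (hL r hr) hy hx).symm
    · rw [Subgroup.mem_centralizer_singleton_iff]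
      exact Z_self hF hφ hx hy
  have h1 := h hx
  rwa [Subgroup.mem_centralizer_singleton_iff] at h1

omit hF hφ [Fintype F] in
theorem comm_one {G : Type v} [Group G] {x y : G} {Z : Subgroup G} (h : x * y = y * x) : x * y * x⁻¹ * y⁻¹ ∈ Z := by
  have h1 : x * y * x⁻¹ * y⁻¹ = 1 := by rw [h]; group
  rw [h1]
  exact one_mem _

omit hF hφ [Fintype F] in
theorem comm_inv {G : Type v} [Group G] {x y : G} {Z : Subgroup G} (h : x * y * x⁻¹ * y⁻¹ ∈ Z) :
    y * x * y⁻¹ * x⁻¹ ∈ Z := by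
  have h1 : y * x * y⁻¹ * x⁻¹ = (x * y * x⁻¹ * y⁻¹)⁻¹ := by group
  rw [h1]
  exact inv_mem h

/-- commutators of `V₁` -/
theorem HH_commutator {L M : List (Fin 4 → ℤ)} (hL : ∀ r ∈ L, r ∈ SL) (hM : ∀ r ∈ M, r ∈ SL)
    {x y : KK F} (hx : x ∈ HH φ L) (hy : y ∈ HH φ M) : x * y * x⁻¹ * y⁻¹ ∈ X φ th := by
  have key : ∀ s ∈ SL, ∀ y ∈ X φ s, HH φ M ≤ CC (X φ th) y := by
    intro s hs y hy
    refine HH_le (fun r hr x hx => ⟨fun z hz => ?_, X_commutator hF hφ (hM r hr) hs hx hy⟩)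
      (fun x hx => ⟨fun z hz => Z_self hF hφ hx hz, comm_one (Z_comm hF hφ hs hx hy)⟩)
    exact (Z_comm hF hφ (hM r hr) hz hx).symm
  have h : HH φ L ≤ CC (X φ th) y := by
    refine HH_le (fun r hr x hx => ⟨fun z hz => ?_, ?_⟩) (fun x hx => ⟨fun z hz => Z_self hF hφ hx hz, ?_⟩)
    · exact (Z_comm hF hφ (hL r hr) hz hx).symm
    · exact comm_inv (key r (hL r hr) x hx hy).2
    · exact comm_one (HH_Z hF hφ hM hy hx).symm
  exact (h hx).2

theorem HH_cons {r : Fin 4 → ℤ} {L : List (Fin 4 → ℤ)} (hL : ∀ s ∈ r :: L, s ∈ SL) {x y : KK F} (hx : x ∈ X φ r)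
    (hy : y ∈ HH φ L) : x * y * x⁻¹ * y⁻¹ ∈ X φ th :=
  HH_commutator hF hφ (L := [r]) (M := L) (fun s hs => by
    rw [List.mem_singleton] at hs
    rw [hs]
    exact hL r List.mem_cons_self) (fun s hs => hL s (List.mem_cons_of_mem _ hs))
    (Subgroup.mem_sup_left hx) hy

/-- the root groups are independent -/
theorem HH_inf {r : Fin 4 → ℤ} {L : List (Fin 4 → ℤ)} (hL : ∀ s ∈ r :: L, s ∈ SL) (hr : r ∉ L) {x : KK F}
    (hx : x ∈ X φ r) (hx' : x ∈ HH φ L) : x = 1 := by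
  have hr' := hL r List.mem_cons_self
  refine X_nondeg hF hφ hr' hx fun y hy => ?_
  refine HH_comm hF hφ (fun s hs => hL s (List.mem_cons_of_mem _ hs)) (tab_SL r hr').2.2.2.1 (fun s hs h => hr ?_) hx' hy
  have h1 : s = r := by
    have h2 : s + (th - r) = th - r + r := by rw [h, sub_add_cancel]
    rw [add_comm] at h2
    exact add_left_cancel h2
  rwa [← h1]

theorem HH_card {L : List (Fin 4 → ℤ)} (hL : ∀ s ∈ L, s ∈ SL) (hn : L.Nodup) :
    Nat.card (HH φ L) = (L.map fun z => if Qv z = 4 then 2 else 4).prod * 2 := by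
  induction L with
  | nil =>
    rw [List.map_nil, List.prod_nil, one_mul]
    have h := card_X hF hφ tab_th.1
    rw [if_pos tab_th.2.2.1] at h
    exact h
  | cons r L ih =>
    rw [List.map_cons, List.prod_cons, mul_assoc, ← ih (fun s hs => hL s (List.mem_cons_of_mem _ hs)) hn.of_cons,
      ← card_X hF hφ (tab_SL r (hL r List.mem_cons_self)).1]
    exact card_sup (Z_le_HH L) (fun a ha b hb => HH_cons hF hφ hL ha hb)
      (fun x hx hx' => HH_inf hF hφ hL (List.nodup_cons.1 hn).1 hx hx')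

theorem HH_sq {L : List (Fin 4 → ℤ)} (hL : ∀ s ∈ L, s ∈ SL) {x : KK F} (hx : x ∈ HH φ L) : x * x ∈ X φ th := by
  revert x
  induction L with
  | nil => exact fun {x} hx => mul_mem hx hx
  | cons r L ih =>
    intro x hx
    obtain ⟨a, ha, b, hb, rfl⟩ := exists_mul (Z_le_HH L) (fun a ha b hb => HH_cons hF hφ hL ha hb) hx
    have h1 := ih (fun s hs => hL s (List.mem_cons_of_mem _ hs)) hb
    have h2 := X_sq hF hφ (tab_SL r (hL r List.mem_cons_self)).1 ha
    have h3 := comm_inv (HH_cons hF hφ hL ha hb)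
    have h4 := Z_comm hF hφ (hL r List.mem_cons_self) h3 ha
    have h5 : a * b * (a * b) = (b * a * b⁻¹ * a⁻¹) * (b * b) := by
      calc a * b * (a * b) = a * (b * a * b⁻¹ * a⁻¹) * a * (b * b) := by group
        _ = (b * a * b⁻¹ * a⁻¹) * (a * a) * (b * b) := by rw [← h4]; group
        _ = _ := by rw [h2, mul_one]
    rw [h5]
    exact mul_mem h3 h1

theorem HH_center {L : List (Fin 4 → ℤ)} (hL : ∀ s ∈ L, s ∈ SL) (hn : L.Nodup) {x : KK F} (hx : x ∈ HH φ L)
    (hc : ∀ r ∈ L, ∀ y ∈ X φ (th - r), x * y = y * x) : x ∈ X φ th := by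
  revert x
  induction L with
  | nil => exact fun {x} hx _ => hx
  | cons r L ih =>
    intro x hx hc
    have hr := hL r List.mem_cons_self
    have hL' : ∀ s ∈ L, s ∈ SL := fun s hs => hL s (List.mem_cons_of_mem _ hs)
    obtain ⟨a, ha, b, hb, rfl⟩ := exists_mul (Z_le_HH L) (fun a ha b hb => HH_cons hF hφ hL ha hb) hx
    have ha1 : a = 1 := by
      refine X_nondeg hF hφ hr ha fun y hy => ?_
      have h1 : b * y = y * b := by
        refine HH_comm hF hφ hL' (tab_SL r hr).2.2.2.1 (fun s hs h => (List.nodup_cons.1 hn).1 ?_) hb hy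
        have h1 : s = r := by
          have h2 : s + (th - r) = th - r + r := by rw [h, sub_add_cancel]
          rw [add_comm] at h2
          exact add_left_cancel h2
        rwa [← h1]
      have h2 := hc r List.mem_cons_self y hy
      have h3 : a * y * b = y * a * b := by
        calc a * y * b = a * (b * y) := by rw [h1, mul_assoc]
          _ = a * b * y := by rw [mul_assoc]
          _ = y * (a * b) := h2
          _ = y * a * b := by rw [mul_assoc]
      exact mul_right_cancel h3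
    rw [ha1, one_mul]
    refine ih hL' (List.nodup_cons.1 hn).2 hb fun s hs y hy => ?_
    have h2 := hc s (List.mem_cons_of_mem _ hs) y hy
    rwa [ha1, one_mul] at h2

/-! ### `V₁` -/

omit hF hφ [Fintype F] in
theorem V_eq : V φ j1 = HH φ SL := by
  apply le_antisymm
  · refine RGD.Sup_le fun z hz => ?_
    obtain ⟨h1, h2, k, hk, hk0⟩ := hz
    have h3 : k = 0 := by
      by_contra hne
      exact hk hne
    subst h3
    rcases tab_pos z ((mem_rts cs).1 h1) hk0 with rfl | h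
    · exact Z_le_HH SL
    · exact X_le_HH h
  · refine HH_le (fun r hr => ?_) ?_
    · obtain ⟨h1, h2, h3, -⟩ := tab_SL r hr
      refine RGD.le_Sup (S := NotJ cs RGDTwE6.isCartan j1) ⟨isRoot h1, fun i => h2 i, 0, fun h => h rfl, ?_⟩
      rw [h3]
      decide
    · exact RGD.le_Sup (S := NotJ cs RGDTwE6.isCartan j1)
        ⟨isRoot tab_th.1, fun i => tab_th.2.1 i, 0, fun h => h rfl, by decide +kernel⟩

/-- **K6** : `V₁` is extraspecial of order `2 ^ 21` with centre `X_θ`. -/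
theorem V1_struct : (∀ x ∈ V φ j1, ∀ y ∈ V φ j1, x * y * x⁻¹ * y⁻¹ ∈ X φ th) ∧ (∀ x ∈ V φ j1, x * x ∈ X φ th) ∧
    (∀ x ∈ V φ j1, (∀ y ∈ V φ j1, x * y = y * x) → x ∈ X φ th) ∧ Nat.card (V φ j1) = 2 ^ 21 := by
  rw [V_eq]
  refine ⟨fun x hx y hy => HH_commutator hF hφ (fun r hr => hr) (fun r hr => hr) hx hy,
    fun x hx => HH_sq hF hφ (fun r hr => hr) hx, fun x hx h => ?_, ?_⟩
  · exact HH_center hF hφ (fun r hr => hr) tab_nodup hx fun r hr y hy => h y (X_le_HH (tab_SL r hr).2.2.2.1 hy)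
  · rw [HH_card hF hφ (fun r hr => hr) tab_nodup, tab_len]
    norm_num

/-- `X_θ` has order two -/
theorem card_X_th : Nat.card (X φ th) = 2 := by
  have h := card_X hF hφ tab_th.1
  rwa [if_pos tab_th.2.2.1] at h

end

end Cfsg.Agent.H594.QF
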